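import Cfsg.Agent.Lib.H6.L37.Iso

set_option autoImplicit false

/-!
# The normal subgroups of `K`

No element outside the even subgroup is central, the centre is trivial, and the normal subgroups
are `⊥`, `Kev` and `⊤`.
-/

namespace Cfsg.Agent.Lib.H6.L37

open Cfsg.Agent.Lib.H6.WPres Matrix

theorem conj_eq_conj_iff (X Y : SL) :
    MulAut.conj X = MulAut.conj Y ↔ X⁻¹ * Y ∈ Subgroup.center SL := by
  rw [← conj_ker, MonoidHom.mem_ker, map_mul, map_inv, inv_mul_eq_one]

theorem tau_Z2 : tau Z2 = Z4 := tau_eq_of_mul _ _ (by decide +kernel)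

theorem Z2_ne_Z4 : Z2 ≠ Z4 := by decide +kernel

theorem Z2_central (A : SL) : Z2 * A = A * Z2 := by
  have h := conj_eq_one_of_isScalar Z2 Z2_scalar
  have := DFunLike.congr_fun h A
  rw [MulAut.conj_apply, MulAut.one_apply, mul_inv_eq_iff_eq_mul] at this
  exact this

/-- the central defect of a matrix conjugating `tau` to the identity up to the centre -/
noncomputable def zetaHom (A : SL)
    (h : ∀ B : SL, (B * A)⁻¹ * (A * tau B) ∈ Subgroup.center SL) : SL →* Subgroup.center SL where
  toFun B := ⟨(B * A)⁻¹ * (A * tau B), h B⟩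
  map_one' := by
    apply Subtype.ext
    simp
  map_mul' := by
    intro B C
    apply Subtype.ext
    change ((B * C) * A)⁻¹ * (A * tau (B * C)) =
      ((B * A)⁻¹ * (A * tau B)) * ((C * A)⁻¹ * (A * tau C))
    have hc := Subgroup.mem_center_iff.mp (h B)
    have e1 : ((B * C) * A)⁻¹ * (A * tau (B * C)) =
        (A⁻¹ * C⁻¹ * A) * ((B * A)⁻¹ * (A * tau B)) * tau C := by
      rw [map_mul]; group
    have e2 : (A⁻¹ * C⁻¹ * A) * ((B * A)⁻¹ * (A * tau B)) =
        ((B * A)⁻¹ * (A * tau B)) * (A⁻¹ * C⁻¹ * A) := hc _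
    rw [e1, e2]
    group

theorem zetaHom_coe (A : SL) (h : ∀ B : SL, (B * A)⁻¹ * (A * tau B) ∈ Subgroup.center SL)
    (B : SL) : (zetaHom A h B : SL) = (B * A)⁻¹ * (A * tau B) := rfl

theorem hom_center_trivial (ζ : SL →* Subgroup.center SL) (B : SL) : ζ B = 1 := by
  have hcomm : ∀ g ∈ commutatorSet SL, ζ g = 1 := by
    rintro _ ⟨a, b, rfl⟩
    rw [map_commutatorElement, commutatorElement_eq_one_iff_commute]
    exact Subtype.ext (Subgroup.mem_center_iff.mp (ζ b).2 (ζ a))
  have hperf : commutator SL = ⊤ :=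
    Cfsg.Agent.Lib.H2.SL_commutator_eq_top (ι := Fin 3) (F := ZMod 7) (by rw [Fintype.card_fin])
  have hB : B ∈ commutator SL := by rw [hperf]; trivial
  rw [commutator_eq_closure] at hB
  induction hB using Subgroup.closure_induction with
  | mem g hg => exact hcomm g hg
  | one => exact map_one ζ
  | mul x y _ _ hx hy => rw [map_mul, hx, hy, one_mul]
  | inv x _ hx => rw [map_inv, hx, inv_one]

/-- the inverse transpose is not inner, even up to the centre -/
theorem tau_not_inner (A : SL)
    (h : ∀ B : SL, (B * A)⁻¹ * (A * tau B) ∈ Subgroup.center SL) : False := by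
  have hz : zetaHom A h Z2 = 1 := hom_center_trivial _ Z2
  have hz' : (Z2 * A)⁻¹ * (A * tau Z2) = 1 := by
    rw [← zetaHom_coe A h Z2, hz]; rfl
  rw [tau_Z2, inv_mul_eq_one, Z2_central] at hz'
  exact Z2_ne_Z4 (mul_left_cancel hz')

/-- no element outside the even subgroup is central -/
theorem odd_not_central (z : K) (hz : z ∉ Kev) (hc : ∀ g : K, g * z = z * g) : False := by
  obtain ⟨A, hA⟩ := rho_odd hz
  apply tau_not_inner A
  intro B
  obtain ⟨g, _, hgB⟩ := conj_mem B
  have h1 : rho g * rho z = rho z * rho g := by rw [← map_mul, ← map_mul, hc g]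
  rw [hgB, hA, ← mul_assoc, mul_assoc (MulAut.conj A), tau_mul_conj, ← mul_assoc] at h1
  have h2 := mul_right_cancel h1
  rw [← map_mul, ← map_mul] at h2
  exact (conj_eq_conj_iff _ _).mp h2

theorem Kev_center : Subgroup.center Kev = ⊥ := by
  rcases (inferInstance : (Subgroup.center Kev).Normal).eq_bot_or_eq_top with h | h
  · exact h
  · exfalso
    let _ : CommGroup Kev := Group.commGroupOfCenterEqTop h
    have hp : (Nat.card Kev).Prime := IsSimpleGroup.prime_card
    rw [Kev_card] at hp
    norm_num at hp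

theorem chi_eq_of_not_mem {g h : K} (hg : g ∉ Kev) (hh : h ∉ Kev) : g * h⁻¹ ∈ Kev := by
  have key : ∀ y : Multiplicative (ZMod 2), y ≠ 1 → y = Multiplicative.ofAdd 1 := by
    intro y hy
    obtain ⟨t, rfl⟩ := Multiplicative.ofAdd.surjective y
    fin_cases t
    · exact absurd rfl hy
    · rfl
  change chi (g * h⁻¹) = 1
  rw [map_mul, map_inv, key _ hg, key _ hh, mul_inv_cancel]

theorem center_K : Subgroup.center K = ⊥ := by
  rw [eq_bot_iff]
  intro z hz
  rw [Subgroup.mem_center_iff] at hz
  by_cases hk : z ∈ Kev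
  · have : (⟨z, hk⟩ : Kev) ∈ Subgroup.center Kev := by
      rw [Subgroup.mem_center_iff]
      intro g
      exact Subtype.ext (hz g)
    rw [Kev_center, Subgroup.mem_bot] at this
    exact congrArg Subtype.val this
  · exact (odd_not_central z hk hz).elim

/-- the normal subgroups of `K` -/
theorem normal_cases (M : Subgroup K) [hM : M.Normal] : M = ⊥ ∨ M = Kev ∨ M = ⊤ := by
  have hn : (M.subgroupOf Kev).Normal := inferInstance
  rcases hn.eq_bot_or_eq_top with h | h
  · -- `M` meets `Kev` trivially
    left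
    have hmeet : ∀ m ∈ M, m ∈ Kev → m = 1 := by
      intro m hm hk
      have : (⟨m, hk⟩ : Kev) ∈ M.subgroupOf Kev := hm
      rw [h, Subgroup.mem_bot] at this
      exact congrArg Subtype.val this
    rw [eq_bot_iff]
    intro z hz
    by_contra hz1
    have hzk : z ∉ Kev := fun hk => hz1 (hmeet z hz hk)
    refine odd_not_central z hzk ?_
    intro g
    have hconj : g * z * g⁻¹ ∈ M := hM.conj_mem z hz g
    have hck : g * z * g⁻¹ ∉ Kev := by
      intro hk
      have := Kev_normal.conj_mem _ hk g⁻¹
      simp only [inv_inv] at this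
      apply hzk
      convert this using 1
      group
    have := hmeet _ (M.mul_mem hconj (M.inv_mem hz)) (chi_eq_of_not_mem hck hzk)
    rw [mul_inv_eq_one] at this
    calc g * z = (g * z * g⁻¹) * g := by group
      _ = z * g := by rw [this]
  · -- `M` contains `Kev`
    right
    have hle : Kev ≤ M := by
      intro g hg
      have : (⟨g, hg⟩ : Kev) ∈ M.subgroupOf Kev := by rw [h]; trivial
      exact this
    by_cases hex : ∃ m ∈ M, m ∉ Kev
    · right
      obtain ⟨m, hm, hmk⟩ := hex
      rw [eq_top_iff]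
      intro g _
      by_cases hg : g ∈ Kev
      · exact hle hg
      · have := hle (chi_eq_of_not_mem hg hmk)
        have h2 := M.mul_mem this hm
        simpa using h2
    · left
      push Not at hex
      exact le_antisymm hex hle

end Cfsg.Agent.Lib.H6.L37
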