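import Cfsg.Agent.Lib.H6.L37.Rho
import Cfsg.Agent.Lib.H2.PSLCard
import Cfsg.Agent.Lib.H2.PSLSimple

set_option autoImplicit false

/-!
# The even subgroup of `K` is `PSL(3, 7)`
-/

namespace Cfsg.Agent.Lib.H6.L37

open Cfsg.Agent.Lib.H6.WPres Matrix

/-- the projective special linear group -/
abbrev PSL : Type := Matrix.ProjectiveSpecialLinearGroup (Fin 3) (ZMod 7)

theorem card_SL : Nat.card SL = 5630688 := by
  have h := Cfsg.Agent.Lib.H12.card_SL_mul (F := ZMod 7) 3 (by norm_num)
  rw [ZMod.card, Fin.prod_univ_three] at h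
  simp only [Fin.val_zero, Fin.val_one, Fin.val_two] at h
  apply Nat.eq_of_mul_eq_mul_left (show 0 < 7 - 1 by norm_num)
  rw [h]
  norm_num

theorem card_PSL : Nat.card PSL = 1876896 := by
  have h := Cfsg.Agent.Lib.H2.card_PSL_mul (F := ZMod 7) 3 (by norm_num)
  rw [ZMod.card, card_SL] at h
  apply Nat.eq_of_mul_eq_mul_left (show 0 < Nat.gcd 3 (7 - 1) by norm_num)
  rw [h]
  norm_num

theorem conj_ker : (MulAut.conj : SL →* MulAut SL).ker = Subgroup.center SL := by
  ext A
  rw [MonoidHom.mem_ker, Subgroup.mem_center_iff]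
  constructor
  · intro h B
    have := DFunLike.congr_fun h B
    rw [MulAut.conj_apply, MulAut.one_apply, mul_inv_eq_iff_eq_mul] at this
    exact this.symm
  · intro h
    ext1 B
    rw [MulAut.conj_apply, MulAut.one_apply, mul_inv_eq_iff_eq_mul]
    exact (h B).symm

/-- the inner automorphisms -/
noncomputable def Inn : Subgroup (MulAut SL) := (MulAut.conj : SL →* MulAut SL).range

/-- the inner automorphism group is `PSL(3, 7)` -/
noncomputable def innEquiv : Inn ≃* PSL :=
  ((QuotientGroup.quotientMulEquivOfEq conj_ker.symm).trans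
    (QuotientGroup.quotientKerEquivRange (MulAut.conj : SL →* MulAut SL))).symm

theorem card_Inn : Nat.card Inn = 1876896 := by
  rw [Nat.card_congr innEquiv.toEquiv, card_PSL]

theorem chi_surjective : Function.Surjective chi := by
  intro y
  obtain ⟨t, rfl⟩ := Multiplicative.ofAdd.surjective y
  fin_cases t
  · exact ⟨1, map_one _⟩
  · exact ⟨k 0, chi_k (by norm_num)⟩

theorem Kev_index : Kev.index = 2 := by
  unfold Kev
  rw [Subgroup.index_ker, MonoidHom.range_eq_top.mpr chi_surjective, Subgroup.card_top,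
    Nat.card_congr Multiplicative.toAdd, Nat.card_zmod]

theorem Kev_card_le : Nat.card Kev ≤ 1876896 := by
  have h := Subgroup.card_mul_index Kev
  rw [Kev_index] at h
  have := K_card.2
  omega

/-- the action of the even subgroup by inner automorphisms -/
noncomputable def rhoEv : Kev →* Inn :=
  (rho.comp Kev.subtype).codRestrict Inn (fun g => by
    obtain ⟨A, hA⟩ := rho_even g.2
    exact ⟨A, hA.symm⟩)

theorem rhoEv_coe (g : Kev) : ((rhoEv g : Inn) : MulAut SL) = rho g := rfl

theorem rhoEv_surjective : Function.Surjective rhoEv := by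
  rintro ⟨_, A, rfl⟩
  obtain ⟨g, hg, h⟩ := conj_mem A
  exact ⟨⟨g, hg⟩, Subtype.ext h⟩

instance K_finite' : Finite K := K_finite

theorem rhoEv_bijective : Function.Bijective rhoEv :=
  rhoEv_surjective.bijective_of_nat_card_le (by rw [card_Inn]; exact Kev_card_le)

/-- the even subgroup is `PSL(3, 7)` -/
noncomputable def KevEquiv : Kev ≃* PSL :=
  (MulEquiv.ofBijective rhoEv rhoEv_bijective).trans innEquiv

theorem Kev_card : Nat.card Kev = 1876896 := by
  rw [Nat.card_congr KevEquiv.toEquiv, card_PSL]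

theorem K_card_eq : Nat.card K = 3753792 := by
  rw [← Subgroup.card_mul_index Kev, Kev_index, Kev_card]

instance Kev_simple : IsSimpleGroup Kev :=
  haveI : IsSimpleGroup PSL := Cfsg.Agent.Lib.H2.PSL_simple_of_three_le (by simp)
  KevEquiv.isSimpleGroup

theorem rho_injective_on_Kev {g : K} (hg : g ∈ Kev) (h : rho g = 1) : g = 1 := by
  have := rhoEv_bijective.1 (a₁ := ⟨g, hg⟩) (a₂ := 1) (Subtype.ext (by rw [rhoEv_coe, h]; rfl))
  exact congrArg Subtype.val this

end Cfsg.Agent.Lib.H6.L37
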