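import Mathlib

set_option autoImplicit false

/-!
# Polarities of the projective plane over `ZMod 7`

The inverse transpose automorphism `tau` of `SL(3, 7)`, six symmetric matrices `P x` of
determinant `1`, and the evaluation of words in the automorphisms `conj (P x) * tau`.
-/

namespace Cfsg.Agent.Lib.H6.L37

open Matrix

/-- the special linear group -/
abbrev SL : Type := Matrix.SpecialLinearGroup (Fin 3) (ZMod 7)

theorem transpose_mul' (A B : SL) : (A * B).transpose = B.transpose * A.transpose := by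
  apply Subtype.ext
  simp [SpecialLinearGroup.coe_transpose, Matrix.transpose_mul]

theorem transpose_one' : (1 : SL).transpose = 1 := by
  apply Subtype.ext
  simp [SpecialLinearGroup.coe_transpose]

theorem transpose_transpose' (A : SL) : A.transpose.transpose = A := by
  apply Subtype.ext
  simp [SpecialLinearGroup.coe_transpose]

theorem transpose_inv' (A : SL) : (A⁻¹).transpose = (A.transpose)⁻¹ := by
  apply eq_inv_of_mul_eq_one_left
  rw [← transpose_mul', mul_inv_cancel, transpose_one']

/-- the inverse transpose automorphism -/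
def tau : MulAut SL where
  toFun A := (A.transpose)⁻¹
  invFun A := (A.transpose)⁻¹
  left_inv A := by
    change ((A.transpose)⁻¹.transpose)⁻¹ = A
    rw [transpose_inv', inv_inv, transpose_transpose']
  right_inv A := by
    change ((A.transpose)⁻¹.transpose)⁻¹ = A
    rw [transpose_inv', inv_inv, transpose_transpose']
  map_mul' A B := by
    change ((A * B).transpose)⁻¹ = (A.transpose)⁻¹ * (B.transpose)⁻¹
    rw [transpose_mul', _root_.mul_inv_rev]

theorem tau_apply (A : SL) : tau A = (A.transpose)⁻¹ := rfl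

theorem tau_tau (A : SL) : tau (tau A) = A := tau.left_inv A

theorem tau_mul_tau : tau * tau = 1 := by
  ext1 A
  exact tau_tau A

theorem tau_sq : tau ^ 2 = 1 := by rw [pow_two, tau_mul_tau]

/-- `tau` applied to a symmetric matrix with a given inverse -/
theorem tau_eq_of_mul (A B : SL) (h : B * A.transpose = 1) : tau A = B := by
  rw [tau_apply]
  exact inv_eq_of_mul_eq_one_left h

/-- conjugation and `tau` -/
theorem tau_mul_conj (A : SL) : tau * MulAut.conj A = MulAut.conj (tau A) * tau := by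
  ext1 B
  simp only [MulAut.mul_apply, MulAut.conj_apply, map_mul, map_inv]

theorem tau_pow_even (n : ℕ) (h : n % 2 = 0) : tau ^ n = 1 := by
  obtain ⟨m, rfl⟩ : ∃ m, n = 2 * m := ⟨n / 2, by omega⟩
  rw [pow_mul, tau_sq, one_pow]

/-- the six symmetric matrices -/
def P : ℕ → SL
  | 0 => ⟨!![1, 1, 3; 1, 3, 1; 3, 1, 1], by decide⟩
  | 1 => ⟨!![1, 1, 3; 1, 2, 2; 3, 2, 4], by decide⟩
  | 2 => ⟨!![1, 0, 0; 0, 1, 0; 0, 0, 1], by decide⟩
  | 3 => ⟨!![0, 0, 1; 0, 6, 2; 1, 2, 5], by decide⟩
  | 4 => ⟨!![0, 0, 3; 0, 3, 0; 3, 0, 0], by decide⟩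
  | _ => ⟨!![0, 3, 4; 3, 6, 6; 4, 6, 6], by decide⟩

/-- their inverses -/
def Pi : ℕ → SL
  | 0 => ⟨!![2, 2, 6; 2, 6, 2; 6, 2, 2], by decide⟩
  | 1 => ⟨!![4, 2, 3; 2, 2, 1; 3, 1, 1], by decide⟩
  | 2 => ⟨!![1, 0, 0; 0, 1, 0; 0, 0, 1], by decide⟩
  | 3 => ⟨!![5, 2, 1; 2, 6, 0; 1, 0, 0], by decide⟩
  | 4 => ⟨!![0, 0, 5; 0, 5, 0; 5, 0, 0], by decide⟩
  | _ => ⟨!![0, 6, 1; 6, 5, 5; 1, 5, 5], by decide⟩

theorem Pi_mul_transpose : ∀ x < 6, Pi x * (P x).transpose = 1 := by decide +kernel

theorem P_mul_transpose : ∀ x < 6, P x * (Pi x).transpose = 1 := by decide +kernel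

theorem tau_P (x : ℕ) (hx : x < 6) : tau (P x) = Pi x := tau_eq_of_mul _ _ (Pi_mul_transpose x hx)

theorem tau_Pi (x : ℕ) (hx : x < 6) : tau (Pi x) = P x := tau_eq_of_mul _ _ (P_mul_transpose x hx)

/-- the automorphism of a letter: a polarity -/
def pol (x : ℕ) : MulAut SL := MulAut.conj (P x) * tau

/-- evaluation of a word: the matrix and its image under `tau` -/
def evS : List ℕ → SL × SL
  | [] => (1, 1)
  | x :: w => (P x * (evS w).2, Pi x * (evS w).1)

theorem evS_snd (w : List ℕ) (hw : ∀ x ∈ w, x < 6) : (evS w).2 = tau (evS w).1 := by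
  induction w with
  | nil => simp [evS]
  | cons x w ih =>
    have hx : x < 6 := hw x List.mem_cons_self
    have ih' := ih (fun y hy => hw y (List.mem_cons_of_mem _ hy))
    simp only [evS]
    rw [map_mul, tau_P x hx, ih', tau_tau]

theorem prod_pol (w : List ℕ) (hw : ∀ x ∈ w, x < 6) :
    (w.map pol).prod = MulAut.conj (evS w).1 * tau ^ w.length := by
  induction w with
  | nil => simp [evS]
  | cons x w ih =>
    have ih' := ih (fun y hy => hw y (List.mem_cons_of_mem _ hy))
    have h2 := evS_snd w (fun y hy => hw y (List.mem_cons_of_mem _ hy))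
    rw [List.map_cons, List.prod_cons, ih', List.length_cons, pow_succ']
    simp only [evS, pol]
    rw [h2, map_mul, mul_assoc, mul_assoc, ← mul_assoc tau (MulAut.conj _), tau_mul_conj,
      mul_assoc]

/-- is the matrix scalar? -/
def isScalar (A : SL) : Bool := decide (A.val = Matrix.scalar (Fin 3) (A.val 0 0))

theorem conj_eq_one_of_isScalar (A : SL) (h : isScalar A = true) : MulAut.conj A = 1 := by
  unfold isScalar at h
  rw [decide_eq_true_eq] at h
  ext1 B
  rw [MulAut.conj_apply, MulAut.one_apply, mul_inv_eq_iff_eq_mul]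
  apply Matrix.SpecialLinearGroup.ext
  intro i j
  have hc := ((Matrix.scalar_commute (A.val 0 0) (fun r' => Commute.all _ _)) B.val).eq
  rw [← h] at hc
  exact congrFun (congrFun hc i) j

theorem conj_mul_of_isScalar (Z A : SL) (h : isScalar Z = true) :
    MulAut.conj (Z * A) = MulAut.conj A := by
  rw [map_mul, conj_eq_one_of_isScalar Z h, one_mul]

end Cfsg.Agent.Lib.H6.L37
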