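import Cfsg.Agent.Lib.H6.WPres
import Cfsg.Agent.Lib.H6.TCApply
import Cfsg.Agent.Lib.H6.L37.TC1.Cert
import Cfsg.Agent.Lib.H6.L37.TC2.Cert

set_option autoImplicit false

/-!
# The group `K = ⟨a, …, f | a-b-c-8-d-e-f, af = (cd)^4⟩` has order at most `3753792`

Letters: `a = 0, b = 1, c = 2, d = 3, f = 4, e = 5`.  The subgroup `K1` generated by the first
five letters has index at most `5586`, and it is a quotient of the group `K5` presented by the
relators not involving `e`, of order at most `672`.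
-/

namespace Cfsg.Agent.Lib.H6.L37

open Cfsg.Agent.Lib.H6.WPres Cfsg.Agent.Lib.H6.TCApply Cfsg.Agent.Lib.H17.CosetCert

/-- the relator words -/
def relW : List (List ℕ) :=
  [[0, 0], [1, 1], [2, 2], [3, 3], [5, 5], [4, 4], [0, 1, 0, 1, 0, 1], [0, 2, 0, 2], [0, 3, 0, 3],
   [0, 5, 0, 5], [0, 4, 0, 4], [1, 2, 1, 2, 1, 2], [1, 3, 1, 3], [1, 5, 1, 5], [1, 4, 1, 4],
   [2, 3, 2, 3, 2, 3, 2, 3, 2, 3, 2, 3, 2, 3, 2, 3], [2, 5, 2, 5], [2, 4, 2, 4],
   [3, 5, 3, 5, 3, 5], [3, 4, 3, 4], [5, 4, 5, 4, 5, 4], [0, 4, 3, 2, 3, 2, 3, 2, 3, 2]]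

/-- the relator words not involving the last letter -/
def relW5 : List (List ℕ) :=
  [[0, 0], [1, 1], [2, 2], [3, 3], [4, 4], [0, 1, 0, 1, 0, 1], [0, 2, 0, 2], [0, 3, 0, 3],
   [0, 4, 0, 4], [1, 2, 1, 2, 1, 2], [1, 3, 1, 3], [1, 4, 1, 4],
   [2, 3, 2, 3, 2, 3, 2, 3, 2, 3, 2, 3, 2, 3, 2, 3], [2, 4, 2, 4], [3, 4, 3, 4],
   [0, 4, 3, 2, 3, 2, 3, 2, 3, 2]]

/-- the group `K` -/
abbrev K : Type := PG 6 relW

/-- the group presented by the relators on the first five letters -/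
abbrev K5 : Type := PG 5 relW5

/-- the generators of `K` -/
noncomputable abbrev k (x : ℕ) : K := gen 6 relW x

theorem relW_lt : ∀ w ∈ relW, ∀ x ∈ w, x < 6 := by decide

theorem relW5_lt : ∀ w ∈ relW5, ∀ x ∈ w, x < 5 := by decide

theorem relW_sq : ∀ x < 6, [x, x] ∈ relW := by decide

theorem relW5_sq : ∀ x < 5, [x, x] ∈ relW5 := by decide

theorem relW5_sub : ∀ w ∈ relW5, w ∈ relW := by decide

theorem k_mul_self (x : ℕ) : k x * k x = 1 := gen_mul_self 6 relW relW_sq x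

theorem k_inv (x : ℕ) : (k x)⁻¹ = k x := gen_inv 6 relW relW_sq x

/-- the subgroup generated by the first five letters -/
def K1 : Subgroup K := Subgroup.closure {g : K | ∃ x < 5, g = k x}

theorem tc1_bound : Bound TC1.iv 6 TC1.words 5586 := fun _ _ _ _ _ γ hiv q0 hw hgen =>
  TC1.bound γ hiv q0 hw hgen

theorem tc2_bound : Bound TC2.iv 5 TC2.words 672 := fun _ _ _ _ _ γ hiv q0 hw hgen =>
  TC2.bound γ hiv q0 hw hgen

set_option maxRecDepth 100000 in
theorem tc1_words :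
    TC1.words.toList.all (okWord TC1.iv 6 relW [[0], [1], [2], [3], [4]]) = true := by
  decide +kernel

set_option maxRecDepth 100000 in
theorem tc2_words : TC2.words.toList.all (okWord TC2.iv 5 relW5 []) = true := by
  decide +kernel

theorem K1_index : K1.index ≠ 0 ∧ K1.index ≤ 5586 := by
  refine index_le k K1 TC1.iv 6 (fun x _ => (k_inv x).symm) relW [[0], [1], [2], [3], [4]]
    (fun w hw => gen_word 6 relW hw) ?_ TC1.words tc1_words (closure_gen 6 relW) 5586 tc1_bound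
  intro w hw
  simp only [List.mem_cons, List.not_mem_nil, or_false] at hw
  rcases hw with rfl | rfl | rfl | rfl | rfl
  all_goals
    simp only [List.map_cons, List.map_nil, List.prod_cons, List.prod_nil, mul_one]
    exact Subgroup.subset_closure ⟨_, by norm_num, rfl⟩

theorem K5_card : Nat.card K5 ≠ 0 ∧ Nat.card K5 ≤ 672 := by
  have h := index_le (gen 5 relW5) (⊥ : Subgroup K5) TC2.iv 5
    (fun x _ => (gen_inv 5 relW5 relW5_sq x).symm) relW5 []
    (fun w hw => gen_word 5 relW5 hw) (fun w hw => absurd hw List.not_mem_nil) TC2.words tc2_words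
    (closure_gen 5 relW5) 672 tc2_bound
  rwa [Subgroup.index_bot] at h

/-- the map from the group on five letters -/
noncomputable def j5 : K5 →* K :=
  lift (n := 5) (W := relW5) k relW5_lt (fun w hw => gen_word 6 relW (relW5_sub w hw))

theorem j5_gen {x : ℕ} (hx : x < 5) : j5 (gen 5 relW5 x) = k x := lift_gen _ _ _ hx

theorem K1_le_range : K1 ≤ j5.range := by
  unfold K1
  rw [Subgroup.closure_le]
  rintro _ ⟨x, hx, rfl⟩
  exact ⟨gen 5 relW5 x, j5_gen hx⟩

theorem K1_card : Nat.card K1 ≠ 0 ∧ Nat.card K1 ≤ 672 := by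
  obtain ⟨h0, h1⟩ := K5_card
  have hd : Nat.card K1 ∣ Nat.card K5 :=
    (Subgroup.card_dvd_of_le K1_le_range).trans (Subgroup.card_range_dvd j5)
  exact ⟨fun h => h0 (by rw [h] at hd; exact Nat.eq_zero_of_zero_dvd hd),
    (Nat.le_of_dvd (Nat.pos_of_ne_zero h0) hd).trans h1⟩

/-- the order bound -/
theorem K_card : Nat.card K ≠ 0 ∧ Nat.card K ≤ 3753792 := by
  obtain ⟨h0, h1⟩ := K1_index
  obtain ⟨h2, h3⟩ := K1_card
  rw [← Subgroup.index_mul_card K1]
  refine ⟨Nat.mul_ne_zero h0 h2, ?_⟩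
  calc K1.index * Nat.card K1 ≤ 5586 * 672 := Nat.mul_le_mul h1 h3
    _ = 3753792 := by norm_num

theorem K_finite : Finite K := Nat.finite_of_card_ne_zero K_card.1

end Cfsg.Agent.Lib.H6.L37
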