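import Cfsg.Agent.Lib.H6.L37.Order
import Cfsg.Agent.Lib.H6.L37.Mat
import Cfsg.Agent.Lib.H2.SLGen

set_option autoImplicit false

/-!
# The action of `K` on `SL(3, 7)` by automorphisms

`rho : K →* MulAut SL` sends every letter to a polarity; the even subgroup `Kev` maps onto the
inner automorphisms.
-/

namespace Cfsg.Agent.Lib.H6.L37

open Cfsg.Agent.Lib.H6.WPres Matrix

instance fact_prime_seven : Fact (Nat.Prime 7) := ⟨by norm_num⟩

set_option maxRecDepth 100000 in
theorem relW_ev : ∀ w ∈ relW, isScalar (evS w).1 = true ∧ w.length % 2 = 0 := by decide +kernel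

theorem relW_pol : ∀ w ∈ relW, (w.map pol).prod = 1 := by
  intro w hw
  obtain ⟨h1, h2⟩ := relW_ev w hw
  rw [prod_pol w (relW_lt w hw), conj_eq_one_of_isScalar _ h1, tau_pow_even _ h2, one_mul]

/-- the action on `SL(3, 7)` -/
noncomputable def rho : K →* MulAut SL := lift (n := 6) (W := relW) pol relW_lt relW_pol

theorem rho_k {x : ℕ} (hx : x < 6) : rho (k x) = pol x := lift_gen _ _ _ hx

theorem rho_word (w : List ℕ) (hw : ∀ x ∈ w, x < 6) :
    rho ((w.map k).prod) = MulAut.conj (evS w).1 * tau ^ w.length := by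
  unfold rho
  rw [lift_word _ _ _ w hw, prod_pol w hw]

/-- the sign -/
noncomputable def chi : K →* Multiplicative (ZMod 2) :=
  lift (n := 6) (W := relW) (fun _ => Multiplicative.ofAdd 1) relW_lt (by decide)

theorem chi_k {x : ℕ} (hx : x < 6) : chi (k x) = Multiplicative.ofAdd 1 := lift_gen _ _ _ hx

theorem chi_word (w : List ℕ) (hw : ∀ x ∈ w, x < 6) :
    chi ((w.map k).prod) = Multiplicative.ofAdd (w.length : ZMod 2) := by
  unfold chi
  rw [lift_word _ _ _ w hw]
  induction w with
  | nil => simp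
  | cons x w ih =>
    rw [List.map_cons, List.prod_cons, ih (fun y hy => hw y (List.mem_cons_of_mem _ hy)),
      List.length_cons, ← ofAdd_add]
    congr 1
    push_cast
    ring

/-- the even subgroup -/
noncomputable def Kev : Subgroup K := chi.ker

instance Kev_normal : Kev.Normal := by unfold Kev; infer_instance

theorem tau_pow_val (t : ZMod 2) : tau ^ ((1 + t).val) = tau ^ (t.val + 1) := by
  fin_cases t
  · rfl
  · change tau ^ 0 = tau ^ 2
    rw [tau_sq, pow_zero]

/-- every element acts as an inner automorphism, times `tau` for the odd ones -/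
theorem rho_form (g : K) :
    ∃ A : SL, rho g = MulAut.conj A * tau ^ (Multiplicative.toAdd (chi g)).val := by
  have hstep : ∀ x < 6, ∀ g : K,
      (∃ A : SL, rho g = MulAut.conj A * tau ^ (Multiplicative.toAdd (chi g)).val) →
      ∃ A : SL, rho (k x * g) = MulAut.conj A * tau ^ (Multiplicative.toAdd (chi (k x * g))).val := by
    rintro x hx g ⟨A, hA⟩
    refine ⟨P x * tau A, ?_⟩
    rw [map_mul rho, map_mul chi, rho_k hx, chi_k hx, hA, toAdd_mul, toAdd_ofAdd, tau_pow_val,
      pow_succ']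
    unfold pol
    rw [map_mul MulAut.conj, mul_assoc, mul_assoc, ← mul_assoc tau (MulAut.conj A), tau_mul_conj, mul_assoc]
  refine induction_gen 6 relW (p := fun g => ∃ A : SL,
    rho g = MulAut.conj A * tau ^ (Multiplicative.toAdd (chi g)).val) ⟨1, by simp⟩ hstep ?_ g
  intro x hx g hg
  rw [show (gen 6 relW x)⁻¹ = k x from k_inv x]
  exact hstep x hx g hg

theorem rho_even {g : K} (hg : g ∈ Kev) : ∃ A : SL, rho g = MulAut.conj A := by
  obtain ⟨A, hA⟩ := rho_form g
  refine ⟨A, ?_⟩
  have : chi g = 1 := hg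
  rw [hA, this]
  simp

theorem rho_odd {g : K} (hg : g ∉ Kev) : ∃ A : SL, rho g = MulAut.conj A * tau := by
  obtain ⟨A, hA⟩ := rho_form g
  refine ⟨A, ?_⟩
  have h1 : chi g ≠ 1 := hg
  have h2 : Multiplicative.toAdd (chi g) = 1 := by
    have h3 : Multiplicative.toAdd (chi g) ≠ 0 := fun h => h1 (by
      rw [← ofAdd_toAdd (chi g), h, ofAdd_zero])
    revert h3
    generalize Multiplicative.toAdd (chi g) = t
    fin_cases t
    · intro h; exact absurd rfl h
    · intro _; rfl
  rw [hA, h2]
  change _ * tau ^ 1 = _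
  rw [pow_one]

/-! ## Transvections -/

/-- the scalar matrix `2` -/
def Z2 : SL := ⟨!![2, 0, 0; 0, 2, 0; 0, 0, 2], by decide⟩

/-- the scalar matrix `4` -/
def Z4 : SL := ⟨!![4, 0, 0; 0, 4, 0; 0, 0, 4], by decide⟩

theorem Z2_scalar : isScalar Z2 = true := by decide +kernel

theorem Z4_scalar : isScalar Z4 = true := by decide +kernel

def w01 : List ℕ := [2, 5, 3, 2, 1, 0, 3, 2, 3, 5, 3, 2, 1, 3, 4, 5]
def w02 : List ℕ := [0, 5, 3, 2, 1, 3, 4, 5, 3, 2, 1, 3, 2, 1, 5, 3, 2, 1, 3, 2, 5, 3, 4, 5]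
def w10 : List ℕ := [1, 2, 1, 5, 3, 2, 3, 2, 5, 3, 2, 1, 3, 2, 3, 5]
def w12 : List ℕ := [1, 0, 5, 3, 4, 5, 3, 2, 3, 2, 1, 5, 3, 2, 3, 2, 5, 4]
def w20 : List ℕ := [2, 5, 3, 2, 1, 4, 5, 3, 2, 1, 3, 2, 1, 5, 3, 2, 1, 3, 2, 5, 3, 2, 3, 5]
def w21 : List ℕ := [3, 4, 5, 3, 2, 1, 3, 2, 3, 5, 3, 2, 1, 3, 4, 5, 3, 2]

set_option maxRecDepth 100000 in
theorem ev01 : (evS w01).1 = Z2 * SpecialLinearGroup.transvection (show (0 : Fin 3) ≠ 1 by decide) 3 := by
  decide +kernel

set_option maxRecDepth 100000 in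
theorem ev02 : (evS w02).1 = Z2 * SpecialLinearGroup.transvection (show (0 : Fin 3) ≠ 2 by decide) 1 := by
  decide +kernel

set_option maxRecDepth 100000 in
theorem ev10 : (evS w10).1 = Z2 * SpecialLinearGroup.transvection (show (1 : Fin 3) ≠ 0 by decide) 3 := by
  decide +kernel

set_option maxRecDepth 100000 in
theorem ev12 : (evS w12).1 = Z4 * SpecialLinearGroup.transvection (show (1 : Fin 3) ≠ 2 by decide) 3 := by
  decide +kernel

set_option maxRecDepth 100000 in
theorem ev20 : (evS w20).1 = Z2 * SpecialLinearGroup.transvection (show (2 : Fin 3) ≠ 0 by decide) 1 := by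
  decide +kernel

set_option maxRecDepth 100000 in
theorem ev21 : (evS w21).1 = Z2 * SpecialLinearGroup.transvection (show (2 : Fin 3) ≠ 1 by decide) 3 := by
  decide +kernel

/-- the matrices whose inner automorphism comes from the even subgroup -/
noncomputable def InnK : Subgroup SL := (Kev.map rho).comap (MulAut.conj : SL →* MulAut SL)

theorem mem_InnK_of_word (w : List ℕ) (hw : ∀ x ∈ w, x < 6) (hlen : w.length % 2 = 0)
    (Z T : SL) (hZ : isScalar Z = true) (h : (evS w).1 = Z * T) : T ∈ InnK := by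
  change MulAut.conj T ∈ Kev.map rho
  refine ⟨(w.map k).prod, ?_, ?_⟩
  · change chi _ = 1
    rw [chi_word w hw]
    have : ((w.length : ℕ) : ZMod 2) = 0 := by
      rw [ZMod.natCast_eq_zero_iff]
      exact Nat.dvd_of_mod_eq_zero hlen
    rw [this, ofAdd_zero]
  · rw [rho_word w hw, h, conj_mul_of_isScalar Z T hZ, tau_pow_even _ hlen, mul_one]

theorem transvection_pow {i j : Fin 3} (hij : i ≠ j) (c : ZMod 7) (m : ℕ) :
    (SpecialLinearGroup.transvection hij c) ^ m = SpecialLinearGroup.transvection hij (m * c) := by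
  induction m with
  | zero =>
    rw [pow_zero, Nat.cast_zero, zero_mul, SpecialLinearGroup.transvection_coeff_zero]
  | succ m ih =>
    rw [pow_succ, ih]
    apply Subtype.ext
    change Matrix.transvection i j _ * Matrix.transvection i j _ = Matrix.transvection i j _
    rw [_root_.Matrix.transvection_mul_transvection_same i j hij]
    congr 1
    push_cast
    ring

theorem mem_InnK_of_transvection {i j : Fin 3} (hij : i ≠ j) (c₀ : ZMod 7) (hc₀ : c₀ ≠ 0)
    (h : SpecialLinearGroup.transvection hij c₀ ∈ InnK) (c : ZMod 7) :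
    SpecialLinearGroup.transvection hij c ∈ InnK := by
  have hc : c = ((c * c₀⁻¹).val : ZMod 7) * c₀ := by
    rw [ZMod.natCast_zmod_val, mul_assoc, inv_mul_cancel₀ hc₀, mul_one]
  rw [hc, ← transvection_pow]
  exact pow_mem h _

theorem InnK_eq_top : InnK = ⊤ := by
  rw [eq_top_iff]
  intro A _
  refine Cfsg.Agent.Lib.H2.SL_transvection_induction (fun A => A ∈ InnK) ?_
    (fun A B hA hB => mul_mem hA hB) A
  intro i j hij c
  have h01 := mem_InnK_of_word w01 (by decide) (by decide) Z2 _ Z2_scalar ev01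
  have h02 := mem_InnK_of_word w02 (by decide) (by decide) Z2 _ Z2_scalar ev02
  have h10 := mem_InnK_of_word w10 (by decide) (by decide) Z2 _ Z2_scalar ev10
  have h12 := mem_InnK_of_word w12 (by decide) (by decide) Z4 _ Z4_scalar ev12
  have h20 := mem_InnK_of_word w20 (by decide) (by decide) Z2 _ Z2_scalar ev20
  have h21 := mem_InnK_of_word w21 (by decide) (by decide) Z2 _ Z2_scalar ev21
  fin_cases i <;> fin_cases j
  · exact absurd rfl hij
  · exact mem_InnK_of_transvection _ 3 (by decide) h01 c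
  · exact mem_InnK_of_transvection _ 1 (by decide) h02 c
  · exact mem_InnK_of_transvection _ 3 (by decide) h10 c
  · exact absurd rfl hij
  · exact mem_InnK_of_transvection _ 3 (by decide) h12 c
  · exact mem_InnK_of_transvection _ 1 (by decide) h20 c
  · exact mem_InnK_of_transvection _ 3 (by decide) h21 c
  · exact absurd rfl hij

/-- every inner automorphism comes from the even subgroup -/
theorem conj_mem (A : SL) : ∃ g ∈ Kev, rho g = MulAut.conj A := by
  have : A ∈ InnK := by rw [InnK_eq_top]; trivial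
  exact this

end Cfsg.Agent.Lib.H6.L37
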